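import Cfsg.Agent.Helper28.M11Q.Data
set_option autoImplicit false
set_option maxRecDepth 1000000
namespace Cfsg.Agent.Helper28.M11Q
open Cfsg.Agent.Helper28
theorem perm_ok_0 : permRange tabs.word letTr.get 1 1 1 0 10 = true := by decide +kernel
end Cfsg.Agent.Helper28.M11Q
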