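import Cfsg.Agent.Helper28.M11Q.Data
set_option autoImplicit false
set_option maxRecDepth 1000000
namespace Cfsg.Agent.Helper28.M11Q
open Cfsg.Agent.Helper28
def chunks0 : List Nat := [0x90000110002000000d0000070000110002000000b00000d0001000000e0000090000060000090000060000040000060000090000060000040000080000000000080000000000050000000000080000000000080000061201000000800000000010000109000006000100000090000060001000000407]
theorem facts_ok0 : checkChunks tabs chunks0 0 7 = true := by decide +kernel
end Cfsg.Agent.Helper28.M11Q
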